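import Cfsg.Agent.Lib.GoldCons.CentralInter
import Cfsg.Agent.Lib.Components.Fitting
import Cfsg.Agent.Lib.MinNonCA.Tools
import Cfsg.Agent.Lib.LocalEven.Wielandt
import Cfsg.Agent.Lib.Components.PTerminalPerfect

/-!
Cyclic intersections of Sylow 2-subgroups: inheritance by subgroups and quotients, and the shape of a group
with trivial solvable radical.
-/

set_option autoImplicit false
set_option linter.style.haveILetI false
set_option linter.unusedSectionVars false

namespace Cfsg.Agent.GoldCons.CyclicInter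

open Subgroup
open scoped Pointwise

universe u

/-- Two distinct Sylow 2-subgroups meet in a cyclic group. -/
def CI (G : Type u) [Group G] : Prop :=
  ∀ S T : Sylow 2 G, S ≠ T → IsCyclic ↥((S : Subgroup G) ⊓ (T : Subgroup G))

variable {G : Type u} [Group G] [Finite G]

theorem isCyclic_of_le {H K : Subgroup G} (h : H ≤ K) (hK : IsCyclic K) : IsCyclic H :=
  (subgroupOfEquivOfLe h).isCyclic.1 inferInstance

/-- A non-cyclic 2-subgroup lies in one Sylow subgroup only, so its normaliser normalises that one. -/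
theorem CI.normalizer_le (h : CI G) {S : Sylow 2 G} {X : Subgroup G} (hX : X ≤ (S : Subgroup G))
    (hc : ¬ IsCyclic X) : normalizer (X : Set G) ≤ normalizer ((S : Subgroup G) : Set G) := by
  intro g hg
  refine Sylow.smul_eq_iff_mem_normalizer.1 ?_
  by_contra hne
  refine hc (isCyclic_of_le (_root_.le_inf (fun x hx => ?_) hX) (h _ S hne))
  rw [CentralInter.mem_smul_sylow]
  exact hX ((mem_normalizer_iff''.1 hg x).1 hx)

/-- Subgroups inherit the hypothesis. -/
theorem CI.subgroup (h : CI G) (E : Subgroup G) : CI ↥E := by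
  intro S T hne
  haveI : Fact (Nat.Prime 2) := ⟨Nat.prime_two⟩
  obtain ⟨S₁, hS₁⟩ := (S.2.map E.subtype).exists_le_sylow
  obtain ⟨T₁, hT₁⟩ := (T.2.map E.subtype).exists_le_sylow
  have key : ∀ (P : Sylow 2 ↥E) (P₁ : Sylow 2 G), (P : Subgroup ↥E).map E.subtype ≤ (P₁ : Subgroup G) →
      (P : Subgroup ↥E) = (P₁ : Subgroup G).subgroupOf E := fun P P₁ hle =>
    (P.is_maximal' (P₁.2.comap_of_injective E.subtype E.subtype_injective) (map_le_iff_le_comap.1 hle)).symm
  have hne' : S₁ ≠ T₁ := fun e => hne (Sylow.ext (by rw [key S S₁ hS₁, key T T₁ hT₁, e]))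
  have hc : IsCyclic ↥(((S : Subgroup ↥E) ⊓ (T : Subgroup ↥E)).map E.subtype) :=
    isCyclic_of_le (_root_.le_inf ((map_mono inf_le_left).trans hS₁) ((map_mono inf_le_right).trans hT₁))
      (h S₁ T₁ hne')
  exact ((equivMapOfInjective _ E.subtype E.subtype_injective).isCyclic).2 hc

/-- A Sylow 2-subgroup of the preimage of a 2-subgroup maps onto it. -/
theorem map_sylow_comap {H : Type u} [Group H] [Finite H] (π : G →* H) (hπ : Function.Surjective π)
    {X : Subgroup H} (hX : IsPGroup 2 X) (P : Sylow 2 ↥(X.comap π)) :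
    ((P : Subgroup ↥(X.comap π)).map (X.comap π).subtype).map π = X := by
  haveI : Fact (Nat.Prime 2) := ⟨Nat.prime_two⟩
  set Q := P.mapSurjective (f := π.subgroupComap X) (π.subgroupComap_surjective_of_surjective X hπ) with hQ
  have htop : (Q : Subgroup ↥X) = ⊤ := (Q.is_maximal' (hX.to_subgroup ⊤) le_top).symm
  rw [hQ, Sylow.coe_mapSurjective] at htop
  refine le_antisymm ?_ fun y hy => ?_
  · rintro _ ⟨_, ⟨p, hp, rfl⟩, rfl⟩
    exact p.2
  · obtain ⟨p, hp, he⟩ := htop.ge (mem_top (⟨y, hy⟩ : X))
    exact ⟨p, ⟨p, hp, rfl⟩, congrArg Subtype.val he⟩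

/-- A 2-subgroup mapping into a Sylow subgroup of a quotient lies in a Sylow subgroup mapping onto that. -/
theorem exists_lift {H : Type u} [Group H] [Finite H] (π : G →* H) (hπ : Function.Surjective π)
    (S : Sylow 2 H) {Q : Subgroup G} (hQ : IsPGroup 2 Q) (hQS : Q ≤ (S : Subgroup H).comap π) :
    ∃ S₁ : Sylow 2 G, Q ≤ (S₁ : Subgroup G) ∧ (S₁ : Subgroup G).map π = S := by
  haveI : Fact (Nat.Prime 2) := ⟨Nat.prime_two⟩
  set Hs := (S : Subgroup H).comap π
  obtain ⟨P, hP⟩ := (hQ.comap_of_injective Hs.subtype Hs.subtype_injective).exists_le_sylow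
  obtain ⟨S₁, hS₁⟩ := (P.2.map Hs.subtype).exists_le_sylow
  refine ⟨S₁, fun x hx => hS₁ ⟨⟨x, hQS hx⟩, hP hx, rfl⟩, ?_⟩
  refine S.is_maximal' (S₁.2.map π) ?_
  rw [← map_sylow_comap π hπ S.2 P]
  exact map_mono hS₁

/-- Quotients inherit the hypothesis. -/
theorem CI.map {H : Type u} [Group H] [Finite H] (h : CI G) (π : G →* H) (hπ : Function.Surjective π) :
    CI H := by
  intro S T hne
  haveI : Fact (Nat.Prime 2) := ⟨Nat.prime_two⟩
  set X := (S : Subgroup H) ⊓ (T : Subgroup H)
  obtain ⟨P⟩ : Nonempty (Sylow 2 ↥(X.comap π)) := inferInstance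
  set Q := (P : Subgroup ↥(X.comap π)).map (X.comap π).subtype
  have hQ : IsPGroup 2 Q := P.2.map _
  have hQX : Q.map π = X := map_sylow_comap π hπ (S.2.to_le inf_le_left) P
  have hle : Q ≤ X.comap π := map_subtype_le _
  obtain ⟨S₁, hS₁, eS⟩ := exists_lift π hπ S hQ (hle.trans (comap_mono inf_le_left))
  obtain ⟨T₁, hT₁, eT⟩ := exists_lift π hπ T hQ (hle.trans (comap_mono inf_le_right))
  haveI := isCyclic_of_le (_root_.le_inf hS₁ hT₁) (h S₁ T₁ fun e => hne (Sylow.ext (by rw [← eS, ← eT, e])))
  rw [← hQX]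
  exact isCyclic_of_surjective (π.subgroupMap Q) (π.subgroupMap_surjective Q)

/-- The hypothesis implies that central intersections have rank at most one. -/
theorem CI.centralRankOne (h : CI G) : CentralRankOne G := by
  intro S T hne _ A _ hA
  haveI := h S T hne
  haveI : IsCyclic A := inferInstance
  obtain ⟨g, hg⟩ := IsCyclic.exists_generator (α := A)
  rw [← orderOf_eq_card_of_forall_mem_zpowers hg, pow_one]
  refine orderOf_le_of_pow_eq_one (by norm_num) (Subtype.ext ?_)
  exact hA g g.2

/-- In a group with trivial solvable radical a non-solvable normal subgroup has trivial centraliser. -/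
theorem CI.centralizer_eq_bot (h : CI G) (hrad : Components.solvRadical G = ⊥) {K : Subgroup G} [K.Normal]
    (hK : ¬ Group.IsSolvable K) : centralizer (K : Set G) = ⊥ := by
  haveI : Fact (Nat.Prime 2) := ⟨Nat.prime_two⟩
  obtain ⟨S⟩ : Nonempty (Sylow 2 G) := inferInstance
  set X := (S : Subgroup G) ⊓ K with hX
  have hKi : ¬ 2 ∣ ((S : Subgroup G).subgroupOf K).index :=
    PTerm.sylow_inf_subnormal S.not_dvd_index (inferInstance : K.Normal).isSubnormal
  have hXc : ¬ IsCyclic X := fun hc => by
    haveI := hc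
    refine hK (MinNonCA.solvable_of_cyclic
      ((S.2.comap_of_injective K.subtype K.subtype_injective).toSylow hKi) ?_)
    have e : (((S : Subgroup G).subgroupOf K).map K.subtype) = X := by rw [subgroupOf_map_subtype]
    exact ((equivMapOfInjective _ K.subtype K.subtype_injective).isCyclic).2 (e ▸ hc)
  set C := centralizer (K : Set G) with hC
  haveI hCn : C.Normal := Subgroup.normal_centralizer
  set D := (S : Subgroup G) ⊓ C with hD
  have hCS : C ≤ normalizer ((S : Subgroup G) : Set G) :=
    ((centralizer_le (show (X : Set G) ⊆ K from fun x hx => hx.2)).trans (centralizer_le_normalizer _)).trans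
      (h.normalizer_le inf_le_left hXc)
  have hDn : C ≤ normalizer (D : Set G) :=
    (_root_.le_inf hCS le_normalizer).trans inf_normalizer_le_normalizer_inf
  have hsub : D.IsSubnormal := by
    haveI : (D.subgroupOf C).Normal := (normal_subgroupOf_iff_le_normalizer inf_le_right).2 hDn
    exact Subgroup.IsSubnormal.step D C inf_le_right hCn.isSubnormal inferInstance
  have hD1 : D = ⊥ := le_bot_iff.1 (hrad ▸ Components.subnormal_solvable_le_radical hsub
    (MinNonCA.solvable_of_twoGroup (S.2.to_le inf_le_left)))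
  have hodd : Odd (Nat.card C) := by
    have h1 := PTerm.sylow_inf_subnormal S.not_dvd_index hCn.isSubnormal
    rw [← inf_relIndex_right, ← hD, hD1, relIndex_bot_left] at h1
    exact Nat.odd_iff.2 (Nat.two_dvd_ne_zero.1 h1)
  exact le_bot_iff.1 (hrad ▸ Components.le_solvRadical hCn (MinNonCA.solvable_of_odd hodd))

/-- A minimal normal subgroup of a non-solvable group with trivial solvable radical is simple, with trivial
centraliser. -/
theorem CI.exists_socle (h : CI G) (hrad : Components.solvRadical G = ⊥) (hns : ¬ Group.IsSolvable G) :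
    ∃ E : Subgroup G, E.Normal ∧ IsSimpleGroup E ∧ ¬ IsMulCommutative E ∧ centralizer (E : Set G) = ⊥ := by
  have htop : (⊤ : Subgroup G) ≠ ⊥ := fun e => hns (Group.isSolvable_of_comm fun a b => by
    have ha := mem_top a
    rw [e] at ha
    rw [mem_bot.1 ha, one_mul, mul_one])
  obtain ⟨E, hEn, hE1, -, hEmin⟩ := LEWielandt.exists_minimal_normal (N := (⊤ : Subgroup G)) inferInstance htop
  haveI := hEn
  have hEs : ¬ Group.IsSolvable E := fun hs => hE1 (le_bot_iff.1 (hrad ▸ Components.le_solvRadical hEn hs))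
  have hradE : Components.solvRadical ↥E = ⊥ := by
    rw [← map_eq_bot_iff_of_injective _ E.subtype_injective, ← le_bot_iff, ← hrad]
    exact Components.solvRadical_map_le_of_subnormal hEn.isSubnormal
  have htopE : (⊤ : Subgroup ↥E) ≠ ⊥ := fun e => hEs (Group.isSolvable_of_comm fun a b => by
    have ha := mem_top a
    rw [e] at ha
    rw [mem_bot.1 ha, one_mul, mul_one])
  have hall : ∀ K : Subgroup ↥E, K.Normal → K ≠ ⊥ →
      (∀ L : Subgroup ↥E, L.Normal → L ≤ K → L = ⊥ ∨ L = K) → K = ⊤ := by
    intro K hK hK1 hKmin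
    haveI := hK
    have hKs : ¬ Group.IsSolvable K := fun hs =>
      hK1 (le_bot_iff.1 (hradE ▸ Components.le_solvRadical hK hs))
    have hKc := (h.subgroup E).centralizer_eq_bot hradE hKs
    have hKg : (K.map E.subtype).Normal := by
      refine ⟨fun x hx g => ?_⟩
      obtain ⟨k, hk, rfl⟩ := hx
      set α : MulAut ↥E := MulAut.conjNormal g with hα
      haveI hn' : (K.map α.toMonoidHom).Normal := Normal.map hK _ α.surjective
      have hKK : K ≤ K.map α.toMonoidHom := by
        rcases hKmin (K.map α.toMonoidHom ⊓ K) inferInstance inf_le_right with hb | ht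
        · exfalso
          refine hK1 ((map_eq_bot_iff_of_injective _ α.injective).1 (le_bot_iff.1 (hKc ▸ ?_)))
          rw [← commutator_eq_bot_iff_le_centralizer, ← le_bot_iff, ← hb]
          exact commutator_le_inf (K.map α.toMonoidHom) K
        · exact ht.ge.trans inf_le_left
      have heq : K = K.map α.toMonoidHom := eq_of_le_of_card_ge hKK (card_map_of_injective α.injective).le
      exact ⟨α k, heq.ge ⟨k, hk, rfl⟩, MulAut.conjNormal_apply g k⟩
    rcases hEmin _ hKg (map_subtype_le K) with hb | ht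
    · exact absurd ((map_eq_bot_iff_of_injective _ E.subtype_injective).1 hb) hK1
    · refine eq_top_iff.2 fun x _ => ?_
      obtain ⟨y, hy, hyx⟩ := ht.ge x.2
      rwa [show x = y from Subtype.ext hyx.symm]
  haveI : Nontrivial ↥E := (Subgroup.nontrivial_iff_ne_bot E).2 hE1
  refine ⟨E, hEn, ⟨fun N hN => ?_⟩, fun hc => hEs (Group.isSolvable_of_comm fun a b => hc.is_comm.comm a b),
    h.centralizer_eq_bot hrad hEs⟩
  refine or_iff_not_imp_left.2 fun hN1 => ?_
  obtain ⟨M, hMn, hM1, hMN, hMmin⟩ := LEWielandt.exists_minimal_normal hN hN1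
  exact top_le_iff.1 ((hall M hMn hM1 hMmin).ge.trans hMN)

end Cfsg.Agent.GoldCons.CyclicInter
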