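import Cfsg.Agent.Lib.GoldCons.CyclicInter.Outer
import Cfsg.Agent.Lib.MaxNorm13.Quot
import Cfsg.Agent.Lib.Walter4.Rank4

/-!
Non-solvable groups with cyclic intersections of Sylow 2-subgroups (S3308), from the strongly closed theorem.
-/

set_option autoImplicit false
set_option linter.style.haveILetI false
set_option linter.unusedSectionVars false

namespace Cfsg.Agent.GoldCons.CyclicInter

open Subgroup

universe u

/-- S3308 from the strongly closed abelian theorem. -/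
theorem S3308_of (hA : ClosedStmt.{u}) {G : Type u} [Group G] [Finite G] (hns : ¬ Group.IsSolvable G)
    (hC : ∀ S T : Sylow 2 G, S ≠ T → IsCyclic ↥((S : Subgroup G) ⊓ (T : Subgroup G)))
    (R : Subgroup G) [R.Normal] (hR : Group.IsSolvable ↥R)
    (hRmax : ∀ N : Subgroup G, N.Normal → Group.IsSolvable ↥N → N ≤ R) :
    ∃ (G₁ : Subgroup G) (_ : G₁.Normal) (_ : (R.subgroupOf G₁).Normal), Odd G₁.index ∧ R ≤ G₁ ∧
      IsSimpleGroup (↥G₁ ⧸ R.subgroupOf G₁) ∧ ¬ IsMulCommutative (↥G₁ ⧸ R.subgroupOf G₁) ∧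
      ((∃ (n : ℕ) (F : Type) (_ : Field F) (_ : Fintype F), 2 ≤ n ∧ Fintype.card F = 2 ^ n ∧
          Nonempty (↥G₁ ⧸ R.subgroupOf G₁ ≃* Matrix.ProjectiveSpecialLinearGroup (Fin 2) F)) ∨
      (∃ (m : ℕ) (F : Type) (_ : Field F) (_ : Fintype F), 1 ≤ m ∧ Fintype.card F = 2 ^ (2 * m + 1) ∧
          Nonempty (↥G₁ ⧸ R.subgroupOf G₁ ≃* ↥(Cfsg.Lie.Sz F (2 ^ (m + 1))))) ∨
      (∃ (n : ℕ) (F : Type) (_ : Field F) (_ : Fintype F), 2 ≤ n ∧ Fintype.card F = 4 ^ n ∧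
          Nonempty (↥G₁ ⧸ R.subgroupOf G₁ ≃* Cfsg.PSU 3 F (2 ^ n))) ∨
      (∃ (F : Type) (_ : Field F) (_ : Fintype F), (Fintype.card F % 8 = 3 ∨ Fintype.card F % 8 = 5) ∧
          5 < Fintype.card F ∧
          Nonempty (↥G₁ ⧸ R.subgroupOf G₁ ≃* Matrix.ProjectiveSpecialLinearGroup (Fin 2) F)) ∨
      Cfsg.IsJ1 (↥G₁ ⧸ R.subgroupOf G₁)) := by
  classical
  haveI : Fact (Nat.Prime 2) := ⟨Nat.prime_two⟩
  have hRn : R.Normal := inferInstance
  have hRe : R = Components.solvRadical G := le_antisymm (Components.le_solvRadical hRn hR)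
    (hRmax _ Components.solvRadical_normal Components.solvRadical_solvable)
  set π := QuotientGroup.mk' R with hπdef
  have hπ : Function.Surjective π := QuotientGroup.mk'_surjective R
  have hker : π.ker = R := QuotientGroup.ker_mk' R
  have hrad : Components.solvRadical (G ⧸ R) = ⊥ :=
    MaxNorm13.solvRadical_eq_bot π hπ (hker.trans hRe)
  have hns' : ¬ Group.IsSolvable (G ⧸ R) := fun hs => hns (by
    haveI := hR
    exact Group.isSolvable_of_ker_le_range R.subtype π (by rw [hker, Subgroup.range_subtype]))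
  have hCI : CI (G ⧸ R) := CI.map hC π hπ
  obtain ⟨E, hEn, hEs, hEnc, hcE⟩ := hCI.exists_socle hrad hns'
  haveI := hEn
  haveI := hEs
  obtain ⟨S⟩ : Nonempty (Sylow 2 (G ⧸ R)) := inferInstance
  have hidx : ¬ 2 ∣ ((S : Subgroup (G ⧸ R)).subgroupOf E).index :=
    PTerm.sylow_inf_subnormal S.not_dvd_index hEn.isSubnormal
  set T : Sylow 2 ↥E := (S.2.comap_of_injective E.subtype E.subtype_injective).toSylow hidx with hTdef
  have hT : (T : Subgroup ↥E) = (S : Subgroup (G ⧸ R)).subgroupOf E := IsPGroup.toSylow_coe _ _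
  have hCE : CentralRankOne ↥E := (hCI.subgroup E).centralRankOne
  have hK : Walter4.Good ↥E ∨ ∃ H : Subgroup ↥E, Cfsg.IsStronglyEmbedded H := by
    obtain ⟨A, hA1, hAc, hcl⟩ := exists_closed hEnc hCE T
    rcases hA ↥E hEs T A hA1 hAc hcl with hab | hH
    · left
      exact Walter4.good ↥E hEs hEnc fun P => ⟨⟨fun x y =>
        (Sylow.equiv P T).injective (by rw [map_mul, map_mul, hab.is_comm.comm])⟩⟩
    · exact Or.inr hH
  obtain ⟨P, hP⟩ := exists_spread ↥E hEs hEnc hK T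
  have hSE : (S : Subgroup (G ⧸ R)) ≤ E := sylow_le hCI E hcE S T hT hP
  have hodd : Odd E.index := by
    rw [← Nat.not_even_iff_odd, even_iff_two_dvd]
    exact fun hd => S.not_dvd_index (hd.trans (index_dvd_of_le hSE))
  have hlist := S3185_of (G := ↥E) hA Walter4.good SEMain.stmt hEnc hCE
  set G₁ := E.comap π with hG₁
  have hRG₁ : R ≤ G₁ := fun x hx => by
    rw [hG₁, mem_comap, show π x = 1 from MonoidHom.mem_ker.1 (hker.ge hx)]
    exact one_mem E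
  set f : ↥G₁ →* ↥E := π.subgroupComap E with hf
  have hfs : Function.Surjective f := π.subgroupComap_surjective_of_surjective E hπ
  have hfk : R.subgroupOf G₁ = f.ker := by
    ext x
    rw [mem_subgroupOf, MonoidHom.mem_ker, ← Subtype.coe_inj]
    constructor
    · exact fun hx => MonoidHom.mem_ker.1 (hker.ge hx)
    · exact fun hx => hker.le (MonoidHom.mem_ker.2 hx)
  haveI hn1 : (R.subgroupOf G₁).Normal := inferInstance
  let e : ↥G₁ ⧸ R.subgroupOf G₁ ≃* ↥E :=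
    (QuotientGroup.quotientMulEquivOfEq hfk).trans (QuotientGroup.quotientKerEquivOfSurjective f hfs)
  haveI : Nontrivial (↥G₁ ⧸ R.subgroupOf G₁) := e.toEquiv.nontrivial
  have hsimp : IsSimpleGroup (↥G₁ ⧸ R.subgroupOf G₁) := IsSimpleGroup.isSimpleGroup_of_surjective
    e.symm.toMonoidHom e.symm.surjective
  refine ⟨G₁, hEn.comap π, hn1, ?_, hRG₁, hsimp, fun hc => hEnc ⟨⟨fun a b =>
    e.symm.injective (by rw [map_mul, map_mul, hc.is_comm.comm])⟩⟩, ?_⟩
  · rw [hG₁, index_comap_of_surjective _ hπ]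
    exact hodd
  rcases hlist with ⟨n, F, i1, i2, hn, hq, ⟨g⟩⟩ | ⟨m, F, i1, i2, hm, hq, ⟨g⟩⟩ | ⟨n, F, i1, i2, hn, hq, ⟨g⟩⟩ |
    ⟨F, i1, i2, h8, h5, ⟨g⟩⟩ | ⟨-, hJ⟩
  · exact Or.inl ⟨n, F, i1, i2, hn, hq, ⟨e.trans g⟩⟩
  · exact Or.inr (Or.inl ⟨m, F, i1, i2, hm, hq, ⟨e.trans g⟩⟩)
  · exact Or.inr (Or.inr (Or.inl ⟨n, F, i1, i2, hn, hq, ⟨e.trans g⟩⟩))
  · exact Or.inr (Or.inr (Or.inr (Or.inl ⟨F, i1, i2, h8, h5, ⟨e.trans g⟩⟩)))
  · exact Or.inr (Or.inr (Or.inr (Or.inr ⟨hsimp, (Nat.card_congr e.toEquiv).trans hJ⟩)))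

end Cfsg.Agent.GoldCons.CyclicInter
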