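import Cfsg.Agent.Lib.Gold1169.Kind

/-!
The facts on a simple group with abelian Sylow 2-subgroups or a strongly embedded subgroup, together with the
statement that squares and commutators of the Sylow subgroup are central involutions.
-/

set_option autoImplicit false
set_option linter.style.haveILetI false

namespace Cfsg.Agent.GoldCons.CyclicInter

open Gold1169

universe u

/-- The facts, with squares and commutators of `T` in `P` and `P` central in `T`. -/
structure Spread (K : Type u) [Group K] (T : Sylow 2 K) (P : Subgroup K) : Prop where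
  facts : Gold1169.Facts K T P
  sq : ∀ x ∈ (T : Subgroup K), x * x ∈ P
  comm : ∀ x ∈ (T : Subgroup K), ∀ y ∈ (T : Subgroup K), x * y * x⁻¹ * y⁻¹ ∈ P
  central : ∀ z ∈ P, ∀ x ∈ (T : Subgroup K), z * x = x * z

/-- Abelian Sylow 2-subgroups. -/
theorem spread_good (K : Type u) [Group K] [Finite K] (hsimp : IsSimpleGroup K) (hnc : ¬ IsMulCommutative K)
    (hG : Walter4.Good K) (T : Sylow 2 K) : ∃ P : Subgroup K, Spread K T P := by
  obtain ⟨P, hP⟩ := KindPf.facts_good T hsimp hnc hG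
  obtain ⟨hsq, -⟩ := Walter4.kindStmt K hsimp hG T
  have hT : ∀ x ∈ (T : Subgroup K), x ∈ P := fun x hx => (hP.mem_iff x hx).1 (hsq x hx)
  refine ⟨P, ⟨hP, fun x hx => hT _ (mul_mem hx hx), fun x hx y hy => hT _ ?_, fun z hz x hx => ?_⟩⟩
  · exact mul_mem (mul_mem (mul_mem hx hy) (inv_mem hx)) (inv_mem hy)
  · exact hP.comm z hz x (hT x hx)

open scoped Pointwise in
open KindPf RankOne in
/-- A strongly embedded subgroup. -/
theorem spread_se (K : Type u) [Group K] [Finite K] [IsSimpleGroup K] {H : Subgroup K}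
    (hH : Cfsg.IsStronglyEmbedded H) (T : Sylow 2 K) : ∃ P : Subgroup K, Spread K T P := by
  haveI : Fact (Nat.Prime 2) := ⟨Nat.prime_two⟩
  obtain ⟨Q₀, hQ₀⟩ := SEMain.exists_reg_simple SEMain.stmt hH
  obtain ⟨S, hS0⟩ := hQ₀.exists_sylow hH
  obtain ⟨g, hg⟩ := MulAction.exists_smul_eq K S T
  set H' := MulAction.stabilizer K (g • ((1 : K) : K ⧸ H)) with hH'def
  have hH' : Cfsg.IsStronglyEmbedded H' := SEMain.se_stab hH _
  have hTH : (T : Subgroup K) ≤ H' := by
    rw [← hg, Sylow.coe_subgroup_smul, hH'def, MulAction.stabilizer_smul_eq_stabilizer_map_conj,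
      MulAction.stabilizer_quotient, hS0]
    exact Subgroup.map_mono hQ₀.le
  obtain ⟨Q, hQ⟩ := SEMain.exists_reg_simple SEMain.stmt hH'
  have hTQ : (T : Subgroup K) = Q := by
    refine (T.is_maximal' hQ.two fun x hx => ?_).symm
    obtain ⟨k, hk⟩ := T.isPGroup' ⟨x, hx⟩
    obtain ⟨i, -, hi⟩ := (Nat.dvd_prime_pow Nat.prime_two).1
      (orderOf_dvd_of_pow_eq_one (congrArg Subtype.val hk : x ^ 2 ^ k = 1))
    exact hQ.mem_of_two hH' (hTH hx) ⟨i, hi⟩
  haveI := RankOne.faithful_of_simple hH'.1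
  obtain ⟨t, hSt⟩ := RankOne.exists_setup hH' hQ.le hQ.norm hQ.trans hQ.reg
  have h2 := RankOne.exists_commuting_of_simple hH'
  obtain ⟨hsq, hcm⟩ := sq_comm_mem hSt h2 hQ.two
  refine ⟨_, ⟨facts_setup hSt h2 hQ.two ?_ T hTQ, ?_, ?_, ?_⟩⟩
  · rw [MulAction.stabilizer_quotient]
    exact hQ.isSolvable hH'
  · rw [hTQ]; exact hsq
  · rw [hTQ]; exact hcm
  · rw [hTQ]; exact fun z hz x hx => invSub_comm hSt h2 hz hx

/-- Either case. -/
theorem exists_spread (K : Type u) [Group K] [Finite K] (hsimp : IsSimpleGroup K)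
    (hnc : ¬ IsMulCommutative K) (hK : Walter4.Good K ∨ ∃ H : Subgroup K, Cfsg.IsStronglyEmbedded H)
    (T : Sylow 2 K) : ∃ P : Subgroup K, Spread K T P := by
  rcases hK with hG | ⟨H, hH⟩
  · exact spread_good K hsimp hnc hG T
  · exact spread_se K hH T

end Cfsg.Agent.GoldCons.CyclicInter
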