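import Cfsg.Agent.Lib.GoldCons.CyclicInter.Basic
import Cfsg.Agent.Lib.GoldCons.CyclicInter.Spread
import Cfsg.Agent.Lib.Solvable.SchurZassenhaus

/-!
A simple normal subgroup with trivial centraliser contains a Sylow 2-subgroup: otherwise some outer 2-element
would act trivially on `P` and on `T ⧸ P`, hence as an element of `P`.
-/

set_option autoImplicit false
set_option linter.style.haveILetI false
set_option linter.unusedSectionVars false

namespace Cfsg.Agent.GoldCons.CyclicInter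

open Subgroup
open scoped Pointwise

universe u

section Local

variable {K : Type u} [Group K] [Finite K] {T : Sylow 2 K} {P : Subgroup K}

theorem Spread.mul_left (hP : Spread K T P) {a b c : K} (ha : a ∈ (T : Subgroup K)) (hb : b ∈ (T : Subgroup K))
    (hc : c ∈ (T : Subgroup K)) :
    a * b * c * (a * b)⁻¹ * c⁻¹ = (b * c * b⁻¹ * c⁻¹) * (a * c * a⁻¹ * c⁻¹) := by
  calc a * b * c * (a * b)⁻¹ * c⁻¹ = a * (b * c * b⁻¹ * c⁻¹) * (c * a⁻¹ * c⁻¹) := by group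
    _ = (b * c * b⁻¹ * c⁻¹) * a * (c * a⁻¹ * c⁻¹) := by rw [← hP.central _ (hP.comm b hb c hc) a ha]
    _ = _ := by group

theorem Spread.mul_right (hP : Spread K T P) {a b c : K} (ha : a ∈ (T : Subgroup K)) (hb : b ∈ (T : Subgroup K))
    (hc : c ∈ (T : Subgroup K)) :
    a * (b * c) * a⁻¹ * (b * c)⁻¹ = (a * b * a⁻¹ * b⁻¹) * (a * c * a⁻¹ * c⁻¹) := by
  calc a * (b * c) * a⁻¹ * (b * c)⁻¹ = (a * b * a⁻¹ * b⁻¹) * (b * (a * c * a⁻¹ * c⁻¹) * b⁻¹) := by group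
    _ = _ := by rw [← hP.central _ (hP.comm a ha c hc) b hb]; group

/-- An element of `N(T)` of two-power order lies in `T`. -/
theorem mem_of_two_normalizer {g : K} (hg : g ∈ normalizer ((T : Subgroup K) : Set K)) {k : ℕ}
    (hk : g ^ 2 ^ k = 1) : g ∈ (T : Subgroup K) := by
  haveI : Fact (Nat.Prime 2) := ⟨Nat.prime_two⟩
  obtain ⟨i, -, hi⟩ := (Nat.dvd_prime_pow Nat.prime_two).1 (orderOf_dvd_of_pow_eq_one hk)
  have hp : IsPGroup 2 (zpowers g : Subgroup K) := IsPGroup.of_card (by rw [Nat.card_zpowers, hi])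
  have heq : (T : Subgroup K) ⊔ zpowers g = T :=
    T.is_maximal' (T.2.to_sup_of_normal_left' hp (zpowers_le.2 hg)) le_sup_left
  exact heq ▸ mem_sup_right (mem_zpowers g)

/-- An involutory automorphism trivial on `P`, normalising `T` and congruent to the identity modulo `T` on
`N(T)` is trivial on `T ⧸ P`. -/
theorem Spread.trivial_mod (hP : Spread K T P) {φ : MulAut K} (hφ : ∀ x, φ (φ x) = x)
    (hT : ∀ x ∈ (T : Subgroup K), φ x ∈ (T : Subgroup K)) (hfix : ∀ x ∈ P, φ x = x)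
    (hN : ∀ n ∈ normalizer ((T : Subgroup K) : Set K), φ n * n⁻¹ ∈ (T : Subgroup K))
    {x : K} (hx : x ∈ (T : Subgroup K)) : φ x * x⁻¹ ∈ P := by
  have hle := hP.facts.le
  rcases hP.facts.vee with hTP | ⟨d, hd, hdP, hfpf⟩ | hinj
  · rw [hfix x (hTP ▸ hx), mul_inv_cancel]; exact one_mem _
  swap
  · exact hinj _ (hT x hx) x hx (by rw [← map_mul, hfix _ (hP.sq x hx)])
  set c : K → K := fun y => y * φ y * y⁻¹ * (φ y)⁻¹ with hcdef
  have hcP : ∀ y ∈ (T : Subgroup K), c y ∈ P := fun y hy => hP.comm y hy _ (hT y hy)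
  have hc1 : ∀ p ∈ P, c p = 1 := fun p hp => by
    simp only [hcdef, hfix p hp]; group
  have hcm : ∀ y ∈ (T : Subgroup K), ∀ z ∈ (T : Subgroup K), c (y * z) = c y * c z := by
    intro y hy z hz
    have h1 := hfix _ (hP.comm z hz _ (hT y hy))
    simp only [map_mul, map_inv, hφ] at h1
    simp only [hcdef, map_mul]
    rw [hP.mul_left hy hz (mul_mem (hT y hy) (hT z hz)), hP.mul_right hy (hT y hy) (hT z hz),
      hP.mul_right hz (hT y hy) (hT z hz)]
    set A := z * φ y * z⁻¹ * (φ y)⁻¹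
    have hA : A = (y * φ z * y⁻¹ * (φ z)⁻¹)⁻¹ := by rw [← h1]; group
    have hPc : ∀ {u v : K}, u ∈ P → v ∈ P → u * v = v * u := fun hu hv => hP.facts.comm _ hu _ hv
    rw [hA]
    set B := y * φ z * y⁻¹ * (φ z)⁻¹
    have hB : B ∈ P := hP.comm y hy _ (hT z hz)
    calc B⁻¹ * (z * φ z * z⁻¹ * (φ z)⁻¹) * (y * φ y * y⁻¹ * (φ y)⁻¹ * B)
        = B⁻¹ * ((z * φ z * z⁻¹ * (φ z)⁻¹) * (y * φ y * y⁻¹ * (φ y)⁻¹)) * B := by group
      _ = (y * φ y * y⁻¹ * (φ y)⁻¹) * (z * φ z * z⁻¹ * (φ z)⁻¹) := by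
        rw [hPc (inv_mem hB) (mul_mem (hcP z hz) (hcP y hy)), inv_mul_cancel_right,
          hPc (hcP z hz) (hcP y hy)]
  have hdT : ∀ y ∈ (T : Subgroup K), d * y * d⁻¹ ∈ (T : Subgroup K) := fun y hy =>
    (mem_normalizer_iff.1 hd y).1 hy
  have hcd : ∀ y ∈ (T : Subgroup K), c (d * y * d⁻¹) = c y := by
    intro y hy
    have hs := hN d hd
    set s := φ d * d⁻¹ with hsdef
    set v := d * y * d⁻¹ with hv
    set w := d * φ y * d⁻¹ with hw
    have hwT : w ∈ (T : Subgroup K) := hdT _ (hT y hy)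
    set q := s * w * s⁻¹ * w⁻¹ with hq
    have hqP : q ∈ P := hP.comm s hs w hwT
    have hφv : φ v = q * w := by
      rw [hv, hq, hw, hsdef, map_mul, map_mul, map_inv]; group
    have hvT : v ∈ (T : Subgroup K) := hdT y hy
    have h1 : v * q * v⁻¹ * q⁻¹ = 1 := by rw [← hP.central q hqP v hvT]; group
    calc c v = v * (q * w) * v⁻¹ * (q * w)⁻¹ := by simp only [hcdef, hφv]
      _ = (v * w * v⁻¹ * w⁻¹) := by rw [hP.mul_right hvT (hle hqP) hwT, h1, one_mul]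
      _ = d * c y * d⁻¹ := by simp only [hcdef, hv, hw]; group
      _ = c y := by rw [hdP _ (hcP y hy), mul_inv_cancel_right]
  obtain ⟨k, m, hm, hkm⟩ := Nat.exists_eq_two_pow_mul_odd (orderOf_pos d).ne'
  have hu : d ^ m ∈ (T : Subgroup K) := mem_of_two_normalizer (k := k) (pow_mem hd m) (by
    rw [← pow_mul, mul_comm, ← hkm, pow_orderOf_eq_one])
  let y : ℕ → K := fun n => Nat.rec 1 (fun _ z => x * (d * z * d⁻¹)) n
  have hy0 : y 0 = 1 := rfl
  have hys : ∀ n, y (n + 1) = x * (d * y n * d⁻¹) := fun n => rfl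
  have hyT : ∀ n, y n ∈ (T : Subgroup K) := by
    intro n
    induction n with
    | zero => exact one_mem _
    | succ n ih => rw [hys]; exact mul_mem hx (hdT _ ih)
  have hstep : ∀ n, y (n + 1) = y n * (d ^ n * x * (d ^ n)⁻¹) := by
    intro n
    induction n with
    | zero => rw [hys, hy0]; group
    | succ n ih =>
      calc y (n + 1 + 1) = x * (d * y (n + 1) * d⁻¹) := hys (n + 1)
        _ = x * (d * y n * d⁻¹) * (d * (d ^ n * x * (d ^ n)⁻¹) * d⁻¹) := by rw [ih]; group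
        _ = y (n + 1) * (d * (d ^ n * x * (d ^ n)⁻¹) * d⁻¹) := by rw [← hys]
        _ = _ := by rw [pow_succ' d n]; group
  have hcy : ∀ n, c (y n) = c x ^ n := by
    intro n
    induction n with
    | zero => rw [hy0, pow_zero]; exact hc1 1 (one_mem _)
    | succ n ih => rw [hys, hcm x hx _ (hdT _ (hyT n)), hcd _ (hyT n), ih, pow_succ']
  have hyP : y m ∈ P := by
    refine hfpf _ (hyT m) ?_
    have h1 := hstep m
    rw [hys] at h1
    have h3 : d * y m * d⁻¹ = x⁻¹ * (y m * (d ^ m * x * (d ^ m)⁻¹)) := by rw [← h1, inv_mul_cancel_left]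
    rw [h3, show x⁻¹ * (y m * (d ^ m * x * (d ^ m)⁻¹)) * (y m)⁻¹ =
      x⁻¹ * (y m * d ^ m) * x⁻¹⁻¹ * (y m * d ^ m)⁻¹ by group]
    exact hP.comm _ (inv_mem hx) _ (mul_mem (hyT m) hu)
  have hcx := hcy m
  rw [hc1 _ hyP] at hcx
  have hsqP : ∀ p ∈ P, p * p = 1 := fun p hp => (hP.facts.mem_iff p (hle hp)).2 hp
  have hone : c x = 1 := Gold1169.KindPf.eq_one_of_pow_odd hm (hsqP _ (hcP x hx)) hcx.symm
  have hcom : x⁻¹ * φ x = φ x * x⁻¹ := by
    have h1 : x * φ x * x⁻¹ * (φ x)⁻¹ = 1 := hone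
    have h4 : Commute x (φ x) := mul_inv_eq_iff_eq_mul.1 (mul_inv_eq_one.1 h1)
    exact h4.inv_left.eq
  refine (hP.facts.mem_iff _ (mul_mem (hT x hx) (inv_mem hx))).1 ?_
  calc φ x * x⁻¹ * (φ x * x⁻¹) = φ x * (x⁻¹ * φ x) * x⁻¹ := by group
    _ = φ (x * x) * (x * x)⁻¹ := by rw [hcom, map_mul]; group
    _ = 1 := by rw [hfix _ (hP.sq x hx), mul_inv_cancel]

/-- The Sylow subgroup is not cyclic. -/
theorem Spread.not_cyclic (hP : Spread K T P) : ¬ IsCyclic ↥(T : Subgroup K) := fun hc => by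
  haveI := isCyclic_of_le hP.facts.le hc
  obtain ⟨g, hg⟩ := IsCyclic.exists_generator (α := P)
  have h1 := orderOf_eq_card_of_forall_mem_zpowers hg
  have h3 : orderOf g ≤ 2 := orderOf_le_of_pow_eq_one (by norm_num) (Subtype.ext (by
    rw [pow_two]; exact (hP.facts.mem_iff _ (hP.facts.le g.2)).2 g.2))
  have h4 := hP.facts.four
  omega

/-- The regular element centralises nothing in `T`. -/
theorem Spread.cent_eq_one (hP : Spread K T P) {h : K}
    (htr : ∀ x ∈ P, x ≠ 1 → ∀ y ∈ P, y ≠ 1 → ∃ i : ℕ, h ^ i * x * (h ^ i)⁻¹ = y)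
    {x : K} (hx : x ∈ (T : Subgroup K)) (hcom : h * x = x * h) : x = 1 := by
  haveI : Fact (Nat.Prime 2) := ⟨Nat.prime_two⟩
  have key : ∀ p ∈ P, h * p = p * h → p = 1 := by
    intro p hp hc
    by_contra hp1
    have hsub : (P : Set K) ⊆ {1, p} := fun q hq => by
      by_cases hq1 : q = 1
      · exact Or.inl hq1
      obtain ⟨i, hi⟩ := htr p hp hp1 q hq hq1
      rw [((show Commute h p from hc).pow_left i).eq, mul_inv_cancel_right] at hi
      exact Or.inr hi.symm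
    have h4 := hP.facts.four
    have h2 := Set.ncard_le_ncard hsub (Set.toFinite _)
    rw [Set.ncard_pair (Ne.symm hp1), ← Nat.card_coe_set_eq] at h2
    exact absurd (h4.trans h2) (by norm_num)
  have hx2 : x * x = 1 := key _ (hP.sq x hx) ((show Commute h x from hcom).mul_right hcom).eq
  exact key x ((hP.facts.mem_iff x hx).1 hx2) hcom

end Local

variable {G : Type u} [Group G] [Finite G]

/-- The normal subgroup contains a Sylow 2-subgroup. -/
theorem sylow_le_of (E : Subgroup G) [E.Normal] (hcE : centralizer (E : Set G) = ⊥)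
    (S : Sylow 2 G) (T : Sylow 2 ↥E) (hT : (T : Subgroup ↥E) = (S : Subgroup G).subgroupOf E)
    (hN : normalizer ((((S : Subgroup G) ⊓ E : Subgroup G) : Set G)) ≤ normalizer ((S : Subgroup G) : Set G))
    {P : Subgroup ↥E} (hP : Spread ↥E T P) : (S : Subgroup G) ≤ E := by
  classical
  haveI : Fact (Nat.Prime 2) := ⟨Nat.prime_two⟩
  have hEn : E.Normal := inferInstance
  by_contra hno
  obtain ⟨x₀, hx₀, hx₀E⟩ := SetLike.not_le_iff_exists.1 hno
  obtain ⟨t, htS, htE, htt⟩ : ∃ t ∈ (S : Subgroup G), t ∉ E ∧ t * t ∈ E := by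
    obtain ⟨k, hk⟩ := S.2 ⟨x₀, hx₀⟩
    have hk' : x₀ ^ 2 ^ k = 1 := congrArg Subtype.val hk
    clear hk
    induction k generalizing x₀ with
    | zero => rw [pow_zero, pow_one] at hk'; exact absurd (hk' ▸ one_mem E) hx₀E
    | succ k ih =>
      by_cases h1 : x₀ * x₀ ∈ E
      · exact ⟨x₀, hx₀, hx₀E, h1⟩
      · exact ih (x₀ * x₀) (mul_mem hx₀ hx₀) h1 (by rw [← pow_two, ← pow_mul, ← pow_succ', hk'])
  have hmem : ∀ x : ↥E, x ∈ (T : Subgroup ↥E) ↔ (x : G) ∈ (S : Subgroup G) := fun x => by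
    rw [hT, mem_subgroupOf]
  set X := (S : Subgroup G) ⊓ E with hXdef
  have hXT : (T : Subgroup ↥E).map E.subtype = X := by rw [hT, subgroupOf_map_subtype]
  have hNX : ∀ n ∈ normalizer ((T : Subgroup ↥E) : Set ↥E), (n : G) ∈ normalizer (X : Set G) := by
    intro n hn
    refine SEBrick.mem_normalizer_of fun z hz => ?_
    refine mem_inf.2 ⟨(hmem (n * ⟨z, hz.2⟩ * n⁻¹)).1 ((mem_normalizer_iff.1 hn _).1 ((hmem ⟨z, hz.2⟩).2 hz.1)),
      mul_mem (mul_mem n.2 hz.2) (inv_mem n.2)⟩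
  have hNS : ∀ n ∈ normalizer ((T : Subgroup ↥E) : Set ↥E), ∀ z ∈ (S : Subgroup G),
      (n : G) * z * (n : G)⁻¹ ∈ (S : Subgroup G) := fun n hn z hz =>
    (mem_normalizer_iff.1 (hN (hNX n hn)) z).1 hz
  -- commutators of `S` with the normaliser
  have hcX : ∀ n ∈ normalizer ((T : Subgroup ↥E) : Set ↥E), ∀ s ∈ (S : Subgroup G),
      s * n * s⁻¹ * (n : G)⁻¹ ∈ X := by
    intro n hn s hs
    refine mem_inf.2 ⟨?_, mul_mem (hEn.conj_mem _ n.2 s) (inv_mem n.2)⟩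
    rw [mul_assoc, mul_assoc, ← mul_assoc (n : G)]
    exact mul_mem hs (hNS n hn _ (inv_mem hs))
  obtain ⟨h₀, hh₀, hodd, htr, -, -⟩ := hP.facts.reg
  set A : Subgroup G := zpowers (h₀ : G) with hA
  have hAX : A ≤ normalizer (X : Set G) := zpowers_le.2 (hNX h₀ hh₀)
  have hcop : (Nat.card A).Coprime (Nat.card X) := by
    obtain ⟨j, hj⟩ := IsPGroup.iff_card.1 (S.2.to_le (inf_le_left : X ≤ (S : Subgroup G)))
    rw [hA, Nat.card_zpowers, orderOf_coe, hj]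
    exact (Nat.coprime_two_right.2 hodd).pow_right j
  have hXA : X ⊓ A = ⊥ := SchurZ.inf_eq_bot hcop
  have hB : MulAut.conj t • A ≤ X ⊔ A := by
    intro z hz
    rw [mem_pointwise_smul_iff_inv_smul_mem, MulAut.smul_def, MulAut.conj_inv_apply] at hz
    obtain ⟨i, hi⟩ := mem_zpowers_iff.1 hz
    have : z = (t * (h₀ : G) * t⁻¹) ^ i := by rw [conj_zpow, hi]; group
    rw [this]
    refine zpow_mem ?_ i
    rw [show t * (h₀ : G) * t⁻¹ = t * h₀ * t⁻¹ * (h₀ : G)⁻¹ * h₀ by rw [inv_mul_cancel_right]]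
    exact mul_mem (mem_sup_left (hcX h₀ hh₀ t htS)) (mem_sup_right (mem_zpowers _))
  obtain ⟨k, hk, hkA⟩ := SchurZ.conj_in hAX hcop (Or.inl inferInstance) hB
    (Nat.card_congr (equivSMul (MulAut.conj t) A).toEquiv.symm)
  set t₁ := k⁻¹ * t with ht₁
  have ht₁S : t₁ ∈ (S : Subgroup G) := mul_mem (inv_mem hk.1) htS
  have ht₁E : t₁ ∉ E := fun hm => htE (by simpa [ht₁] using mul_mem hk.2 hm)
  have ht₁sq : t₁ * t₁ ∈ E := by
    rw [show t₁ * t₁ = k⁻¹ * (t * k⁻¹ * t⁻¹) * (t * t) by rw [ht₁]; group]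
    exact mul_mem (mul_mem (inv_mem hk.2) (hEn.conj_mem _ (inv_mem hk.2) t)) htt
  have hth : t₁ * (h₀ : G) = h₀ * t₁ := by
    have h1 : t * (h₀ : G) * t⁻¹ ∈ MulAut.conj k • A := hkA.ge (by
      rw [mem_pointwise_smul_iff_inv_smul_mem, MulAut.smul_def, MulAut.conj_inv_apply,
        show t⁻¹ * (t * (h₀ : G) * t⁻¹) * t = h₀ by group]
      exact mem_zpowers _)
    rw [mem_pointwise_smul_iff_inv_smul_mem, MulAut.smul_def, MulAut.conj_inv_apply,
      show k⁻¹ * (t * (h₀ : G) * t⁻¹) * k = t₁ * h₀ * t₁⁻¹ by rw [ht₁]; group] at h1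
    have h2 : t₁ * h₀ * t₁⁻¹ * (h₀ : G)⁻¹ ∈ X ⊓ A :=
      mem_inf.2 ⟨hcX h₀ hh₀ t₁ ht₁S, mul_mem h1 (inv_mem (mem_zpowers _))⟩
    rw [hXA, mem_bot, mul_inv_eq_one, mul_inv_eq_iff_eq_mul] at h2
    exact h2
  have ht₁2 : t₁ * t₁ = 1 := by
    refine congrArg Subtype.val (hP.cent_eq_one htr (x := ⟨t₁ * t₁, ht₁sq⟩)
      ((hmem _).2 (mul_mem ht₁S ht₁S)) (Subtype.ext ?_))
    exact ((show Commute t₁ (h₀ : G) from hth).symm.mul_right (show Commute t₁ (h₀ : G) from hth).symm).eq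
  set φ : MulAut ↥E := MulAut.conjNormal t₁ with hφdef
  have hφv : ∀ x : ↥E, ((φ x : ↥E) : G) = t₁ * x * t₁⁻¹ := fun x => MulAut.conjNormal_apply t₁ x
  have hφφ : φ * φ = 1 := by rw [hφdef, ← map_mul, ht₁2, map_one]
  have hinv : ∀ x : ↥E, φ (φ x) = x := fun x => by rw [← MulAut.mul_apply, hφφ, MulAut.one_apply]
  have hφT : ∀ x ∈ (T : Subgroup ↥E), φ x ∈ (T : Subgroup ↥E) := fun x hx => by
    rw [hmem, hφv]; exact mul_mem (mul_mem ht₁S ((hmem x).1 hx)) (inv_mem ht₁S)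
  have hle := hP.facts.le
  have hsqP : ∀ p ∈ P, p * p = 1 := fun p hp => (hP.facts.mem_iff p (hle hp)).2 hp
  have hφP : ∀ p ∈ P, φ p ∈ P := fun p hp =>
    (hP.facts.mem_iff _ (hφT p (hle hp))).1 (by rw [← map_mul, hsqP p hp, map_one])
  obtain ⟨y, hy, hy1, hφy⟩ : ∃ y ∈ P, y ≠ 1 ∧ φ y = y := by
    obtain ⟨y₀, hy₀, hy₀1⟩ := P.ne_bot_iff_exists_ne_one.1 (fun e => by
      have := hP.facts.four
      rw [e, card_bot] at this
      omega) |> fun ⟨y, hy⟩ => (⟨y.1, y.2, fun e => hy (Subtype.ext e)⟩ : ∃ y ∈ P, y ≠ 1)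
    by_cases hf : φ y₀ = y₀
    · exact ⟨y₀, hy₀, hy₀1, hf⟩
    refine ⟨y₀ * φ y₀, mul_mem hy₀ (hφP y₀ hy₀), fun e => hf ?_, ?_⟩
    · rw [eq_inv_of_mul_eq_one_right e, ← eq_inv_of_mul_eq_one_left (hsqP y₀ hy₀)]
    · rw [map_mul, hinv]; exact hP.facts.comm _ (hφP y₀ hy₀) _ hy₀
  have hφh : φ h₀ = h₀ := Subtype.ext (by rw [hφv, hth, mul_inv_cancel_right])
  have hfix : ∀ p ∈ P, φ p = p := fun p hp => by
    by_cases hp1 : p = 1
    · rw [hp1, map_one]
    obtain ⟨i, rfl⟩ := htr y hy hy1 p hp hp1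
    rw [map_mul, map_mul, map_inv, map_pow, hφh, hφy]
  have hφN : ∀ n ∈ normalizer ((T : Subgroup ↥E) : Set ↥E), φ n * n⁻¹ ∈ (T : Subgroup ↥E) := fun n hn => by
    rw [hmem, coe_mul, coe_inv, hφv]
    exact (hcX n hn t₁ ht₁S).1
  obtain ⟨p, -, hp⟩ := hP.facts.inner φ hφφ hfix fun x hx => hP.trivial_mod hinv hφT hfix hφN hx
  have hg : (p : G)⁻¹ * t₁ ∈ centralizer (E : Set G) := by
    refine mem_centralizer_iff.2 fun z hz => ?_
    have h1 := congrArg Subtype.val (DFunLike.congr_fun hp ⟨z, hz⟩)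
    rw [hφv, MulAut.conj_apply] at h1
    push_cast at h1
    calc z * ((p : G)⁻¹ * t₁) = (p : G)⁻¹ * ((p : G) * z * (p : G)⁻¹) * t₁ := by group
      _ = (p : G)⁻¹ * (t₁ * z * t₁⁻¹) * t₁ := by rw [h1]
      _ = _ := by group
  rw [hcE, mem_bot, inv_mul_eq_one] at hg
  exact ht₁E (hg ▸ p.2)

/-- A simple normal subgroup with trivial centraliser contains a Sylow 2-subgroup when the intersections are
cyclic. -/
theorem sylow_le (h : CI G) (E : Subgroup G) [E.Normal] (hcE : centralizer (E : Set G) = ⊥)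
    (S : Sylow 2 G) (T : Sylow 2 ↥E) (hT : (T : Subgroup ↥E) = (S : Subgroup G).subgroupOf E)
    {P : Subgroup ↥E} (hP : Spread ↥E T P) : (S : Subgroup G) ≤ E := by
  refine sylow_le_of E hcE S T hT (h.normalizer_le inf_le_left fun hc => hP.not_cyclic ?_) hP
  exact ((equivMapOfInjective _ E.subtype E.subtype_injective).isCyclic).2
    ((show (T : Subgroup ↥E).map E.subtype = (S : Subgroup G) ⊓ E by rw [hT, subgroupOf_map_subtype]).symm ▸ hc)

end Cfsg.Agent.GoldCons.CyclicInter
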